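import Mathlib
import Cfsg.Agent.Lib.LinearGroup.Card

/-!
Arithmetic and torus embeddings for Sylow `r`-subgroups of `GL_n(q)` and `SL_n(q)`, `r > n`.
-/

set_option autoImplicit false

namespace Cfsg.Agent.LPSylow

open Polynomial Matrix

/-- The `r`-part exponent of the relevant cyclotomic value. -/
noncomputable def cycVal (r q : ℕ) : ℕ :=
  padicValNat r ((Polynomial.cyclotomic (orderOf (q : ZMod r)) ℤ).eval (q : ℤ)).natAbs

variable {r q : ℕ} [hr : Fact r.Prime]

theorem orderOf_pos_of_not_dvd (hrq : ¬ r ∣ q) : 0 < orderOf (q : ZMod r) := by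
  have hq : (q : ZMod r) ≠ 0 := by rwa [Ne, ZMod.natCast_eq_zero_iff]
  rw [Nat.pos_iff_ne_zero, ne_eq, orderOf_eq_zero_iff, not_not, isOfFinOrder_iff_pow_eq_one]
  exact ⟨r - 1, by have := hr.out.two_le; omega, ZMod.pow_card_sub_one_eq_one hq⟩

theorem dvd_pow_sub_one_iff (hq : 0 < q) (i : ℕ) : r ∣ q ^ i - 1 ↔ orderOf (q : ZMod r) ∣ i := by
  rw [orderOf_dvd_iff_pow_eq_one, ← ZMod.natCast_eq_zero_iff, Nat.cast_sub (Nat.one_le_pow _ _ hq),
    Nat.cast_pow, Nat.cast_one, sub_eq_zero]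

theorem cycVal_eq (hq : 2 ≤ q) (hrq : ¬ r ∣ q) :
    cycVal r q = padicValNat r (q ^ orderOf (q : ZMod r) - 1) := by
  set d := orderOf (q : ZMod r) with hd
  have hd0 : 0 < d := orderOf_pos_of_not_dvd hrq
  let f : ℕ → ℕ := fun e => ((Polynomial.cyclotomic e ℤ).eval (q : ℤ)).natAbs
  have hprod : ∀ k, 0 < k → ∏ e ∈ k.divisors, f e = q ^ k - 1 := by
    intro k hk
    have h := congrArg (Polynomial.eval (q : ℤ)) (Polynomial.prod_cyclotomic_eq_X_pow_sub_one hk ℤ)
    rw [eval_prod, eval_sub, eval_pow, eval_X, eval_one] at h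
    have h2 : Int.natAbs ((q : ℤ) ^ k - 1) = q ^ k - 1 := by
      rw [show ((q : ℤ) ^ k - 1) = ((q ^ k - 1 : ℕ) : ℤ) by
        rw [Nat.cast_sub (Nat.one_le_pow _ _ (by omega))]; push_cast; rfl]
      exact Int.natAbs_natCast _
    rw [← h2, ← h]
    exact (map_prod Int.natAbsHom (fun e => (Polynomial.cyclotomic e ℤ).eval (q : ℤ)) k.divisors).symm
  have hnd : ∀ e ∈ d.divisors.erase d, ¬ r ∣ f e := by
    intro e he hdvd
    obtain ⟨hne, he⟩ := Finset.mem_erase.mp he
    have hed := Nat.dvd_of_mem_divisors he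
    have h0 : 0 < e := Nat.pos_of_dvd_of_pos hed hd0
    have h1 : f e ∣ q ^ e - 1 := by
      rw [← hprod e h0]
      exact Finset.dvd_prod_of_mem f (Nat.mem_divisors_self e h0.ne')
    have h2 := (dvd_pow_sub_one_iff (by omega) e).mp (hdvd.trans h1)
    exact hne (Nat.dvd_antisymm hed h2)
  rw [← hprod d hd0, ← Finset.mul_prod_erase _ f (Nat.mem_divisors_self d hd0.ne')]
  have h3 : ¬ r ∣ ∏ e ∈ d.divisors.erase d, f e := by
    intro h
    obtain ⟨e, he, hre⟩ := (hr.out.prime.dvd_finsetProd_iff f).mp h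
    exact hnd e he hre
  have hfd : f d ≠ 0 := by
    intro h
    have := hprod d hd0
    rw [Finset.prod_eq_zero (Nat.mem_divisors_self d hd0.ne') h] at this
    have := Nat.one_lt_pow hd0.ne' (by omega : 1 < q)
    omega
  rw [padicValNat.mul hfd (fun h => h3 (by rw [h]; exact dvd_zero r)), padicValNat.eq_zero_of_not_dvd h3, add_zero]
  rfl

theorem padicValNat_pow_sub_one (hq : 2 ≤ q) (hrq : ¬ r ∣ q) {i : ℕ} (hi : 0 < i)
    (hir : i < r) :
    padicValNat r (q ^ i - 1) = if orderOf (q : ZMod r) ∣ i then cycVal r q else 0 := by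
  split_ifs with h
  · obtain ⟨k, rfl⟩ := h
    set d := orderOf (q : ZMod r) with hd
    have hk : 0 < k := Nat.pos_of_mul_pos_left hi
    have hkr : ¬ r ∣ k := fun hdk => by
      have h1 := Nat.le_of_dvd hk hdk
      have h2 : k ≤ d * k := Nat.le_mul_of_pos_left k (Nat.pos_of_mul_pos_right hi)
      omega
    rw [cycVal_eq hq hrq, pow_mul]
    rcases eq_or_ne r 2 with rfl | hr2'
    · have : k = 1 := by
        have h2 : k ≤ d * k := Nat.le_mul_of_pos_left k (Nat.pos_of_mul_pos_right hi)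
        omega
      rw [this, pow_one]
    · have hodd : Odd r := hr.out.odd_of_ne_two hr2'
      have h := padicValNat.pow_sub_pow hodd (x := q ^ d) (y := 1)
        (Nat.one_lt_pow (Nat.pos_of_mul_pos_right hi).ne' (by omega))
        ((dvd_pow_sub_one_iff (by omega) d).mpr dvd_rfl)
        (fun h => hrq (hr.out.dvd_of_dvd_pow h)) hk.ne'
      rw [one_pow] at h
      rw [h, padicValNat.eq_zero_of_not_dvd hkr, add_zero]
  · exact padicValNat.eq_zero_of_not_dvd (mt (dvd_pow_sub_one_iff (by omega) i).mp h)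

theorem padicValNat_prod_pow_sub_one (hq : 2 ≤ q) (hrq : ¬ r ∣ q) (s : Finset ℕ)
    (hs : ∀ i ∈ s, 0 < i ∧ i < r) :
    padicValNat r (∏ i ∈ s, (q ^ i - 1)) = (s.filter fun i => orderOf (q : ZMod r) ∣ i).card * cycVal r q := by
  induction s using Finset.induction with
  | empty => simp
  | insert a s ha ih =>
    have hne : ∀ i, 0 < i → q ^ i - 1 ≠ 0 := fun i hi => by
      have := Nat.one_lt_pow hi.ne' (by omega : 1 < q)
      omega
    obtain ⟨ha0, har⟩ := hs a (Finset.mem_insert_self a s)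
    rw [Finset.prod_insert ha, padicValNat.mul (hne a ha0) (Finset.prod_ne_zero_iff.mpr fun i hi =>
      hne i (hs i (Finset.mem_insert_of_mem hi)).1), ih fun i hi => hs i (Finset.mem_insert_of_mem hi),
      padicValNat_pow_sub_one hq hrq ha0 har, Finset.filter_insert]
    split_ifs
    · rw [Finset.card_insert_of_notMem fun h => ha (Finset.filter_subset _ _ h), Nat.succ_mul, add_comm]
    · rw [zero_add]

theorem padicValNat_pow_mul_prod (hq : 2 ≤ q) (hrq : ¬ r ∣ q) (E c m : ℕ) (hc : 0 < c) (hm : m + c ≤ r) :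
    padicValNat r (q ^ E * ∏ i ∈ Finset.range m, (q ^ (i + c) - 1)) =
      ((Finset.Ico c (m + c)).filter fun i => orderOf (q : ZMod r) ∣ i).card * cycVal r q := by
  have hs : ∀ i ∈ Finset.Ico c (m + c), 0 < i ∧ i < r := fun i hi => by
    rw [Finset.mem_Ico] at hi; omega
  have hne : ∏ i ∈ Finset.Ico c (m + c), (q ^ i - 1) ≠ 0 := Finset.prod_ne_zero_iff.mpr fun i hi => by
    have := Nat.one_lt_pow (hs i hi).1.ne' (by omega : 1 < q)
    omega
  have he : ∏ i ∈ Finset.range m, (q ^ (i + c) - 1) = ∏ i ∈ Finset.Ico c (m + c), (q ^ i - 1) := by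
    rw [Finset.prod_Ico_eq_prod_range, Nat.add_sub_cancel]
    exact Finset.prod_congr rfl fun i _ => by rw [add_comm]
  rw [he, padicValNat.mul (pow_ne_zero _ (by omega)) hne, padicValNat.eq_zero_of_not_dvd
    (fun h => hrq (hr.out.dvd_of_dvd_pow h)), zero_add, padicValNat_prod_pow_sub_one hq hrq _ hs]

variable {F : Type*} [Field F]

/-- Block diagonal embedding of `a` copies of `GL_d` into `GL_n`. -/
noncomputable def blockEmb {a d n rest : ℕ} (h : d * a + rest = n) :
    (Fin a → Matrix (Fin d) (Fin d) F) →* Matrix (Fin n) (Fin n) F where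
  toFun M := Matrix.reindexAlgEquiv F F ((Equiv.sumCongr finProdFinEquiv (Equiv.refl _)).trans
    (finSumFinEquiv.trans (finCongr h))) (Matrix.fromBlocks (Matrix.blockDiagonal M) 0 0 (1 : Matrix (Fin rest) (Fin rest) F))
  map_one' := by rw [Matrix.blockDiagonal_one, Matrix.fromBlocks_one, map_one]
  map_mul' M N := by
    rw [← map_mul, Matrix.fromBlocks_multiply]
    simp [Pi.mul_def, Matrix.blockDiagonal_mul]

theorem blockEmb_injective {a d n rest : ℕ} (h : d * a + rest = n) :
    Function.Injective (blockEmb (F := F) h) := fun _ _ hMN =>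
  Matrix.blockDiagonal_injective (Matrix.fromBlocks_inj.mp ((AlgEquiv.injective _) hMN)).1

theorem exists_cyclic_hom_GL [Finite F] {d m : ℕ} (hd : 0 < d) (hm : m ∣ Nat.card F ^ d - 1) :
    ∃ φ : Multiplicative (ZMod m) →* GL (Fin d) F, Function.Injective φ := by
  classical
  obtain ⟨p, hp⟩ := CharP.exists F
  haveI : Fact p.Prime := ⟨CharP.char_is_prime F p⟩
  haveI : NeZero d := ⟨hd.ne'⟩
  let K := FiniteField.Extension F p d
  let b := Module.finBasisOfFinrankEq F K (FiniteField.finrank_extension F p d)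
  have hcard : Nat.card Kˣ = Nat.card F ^ d - 1 := by
    rw [Nat.card_units, Module.natCard_eq_pow_finrank (K := F), FiniteField.finrank_extension F p d]
  obtain ⟨g, hg⟩ := IsCyclic.exists_generator (α := Kˣ)
  have hg' : orderOf g = Nat.card Kˣ := orderOf_eq_card_of_forall_mem_zpowers hg
  have hpos : 0 < Nat.card Kˣ := Nat.card_pos
  have hm0 : 0 < m := Nat.pos_of_dvd_of_pos hm (hcard ▸ hpos)
  let x := g ^ (Nat.card Kˣ / m)
  have hx : Nat.card (Subgroup.zpowers x) = m := by
    rw [Nat.card_zpowers, orderOf_pow' _ (Nat.div_pos (Nat.le_of_dvd hpos (hcard ▸ hm)) hm0).ne', hg',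
      Nat.gcd_eq_right (Nat.div_dvd_of_dvd (hcard ▸ hm)), Nat.div_div_self (hcard ▸ hm) hpos.ne']
  haveI : NeZero m := ⟨hm0.ne'⟩
  let e : Multiplicative (ZMod m) ≃* Subgroup.zpowers x := mulEquivOfCyclicCardEq (by
    rw [hx, Nat.card_congr Multiplicative.toAdd, Nat.card_zmod])
  refine ⟨(Units.map (Algebra.leftMulMatrix b : K →* Matrix (Fin d) (Fin d) F)).comp
    ((Subgroup.zpowers x).subtype.comp e.toMonoidHom), ?_⟩
  exact (Units.map_injective (Algebra.leftMulMatrix_injective b)).comp (Subtype.coe_injective.comp e.injective)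

theorem exists_torus_GL [Finite F] {a d n rest m : ℕ} (hd : 0 < d) (h : d * a + rest = n)
    (hm : m ∣ Nat.card F ^ d - 1) :
    ∃ φ : (Fin a → Multiplicative (ZMod m)) →* GL (Fin n) F, Function.Injective φ := by
  obtain ⟨ψ, hψ⟩ := exists_cyclic_hom_GL (F := F) hd hm
  refine ⟨(Units.map (blockEmb (F := F) h)).comp ((MulEquiv.piUnits.symm.toMonoidHom).comp
    (MonoidHom.piMap fun _ : Fin a => ψ)), ?_⟩
  exact (Units.map_injective (blockEmb_injective h)).comp
    (MulEquiv.piUnits.symm.injective.comp (Function.Injective.piMap fun _ => hψ))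

theorem nonempty_equiv_sylow {G A : Type*} [Group G] [Finite G] [Group A] (φ : A →* G)
    (hφ : Function.Injective φ) (hcard : Nat.card A = r ^ padicValNat r (Nat.card G)) (P : Sylow r G) :
    Nonempty (↥(P : Subgroup G) ≃* A) := by
  let Q : Sylow r G := Sylow.ofCard φ.range (by
    rw [Nat.card_congr (MonoidHom.ofInjective hφ).symm.toEquiv, hcard, Nat.factorization_def _ hr.out])
  exact ⟨(Sylow.equiv P Q).trans (MonoidHom.ofInjective hφ).symm⟩

end Cfsg.Agent.LPSylow
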