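import Cfsg.Agent.Lib.LargePrimeSylow.Basic

/-!
Tori of `SL_n(q)` for the large prime Sylow subgroups.
-/

set_option autoImplicit false

namespace Cfsg.Agent.LPSylow

open Matrix

variable {F : Type*} [Field F]

theorem exists_cyclic_hom_units [Finite F] {m : ℕ} (hm : m ∣ Nat.card F - 1) :
    ∃ u : Multiplicative (ZMod m) →* Fˣ, Function.Injective u := by
  have hm' : m ∣ Nat.card F ^ 1 - 1 := by rwa [pow_one]
  obtain ⟨ψ, hψ⟩ := exists_cyclic_hom_GL (F := F) Nat.one_pos hm'
  refine ⟨(Matrix.GeneralLinearGroup.det : GL (Fin 1) F →* Fˣ).comp ψ, fun x y h => hψ ?_⟩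
  apply Units.ext
  ext i j
  have h' := congrArg Units.val h
  simp only [MonoidHom.comp_apply, Matrix.GeneralLinearGroup.val_det_apply, Matrix.det_fin_one] at h'
  rwa [Subsingleton.elim i 0, Subsingleton.elim j 0]

/-- The diagonal torus of `SL_(k+1)`. -/
noncomputable def diagSL (k : ℕ) : (Fin k → Fˣ) →* Matrix.SpecialLinearGroup (Fin (k + 1)) F where
  toFun x := ⟨Matrix.diagonal (Fin.cons (((∏ i, x i)⁻¹ : Fˣ) : F) fun i => (x i : F)), by
    rw [Matrix.det_diagonal, Fin.prod_univ_succ]
    simp only [Fin.cons_zero, Fin.cons_succ]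
    rw [← Units.coe_prod, ← Units.val_mul, inv_mul_cancel, Units.val_one]⟩
  map_one' := by
    apply Subtype.ext
    show Matrix.diagonal _ = 1
    rw [← Matrix.diagonal_one]
    congr 1
    ext i
    cases i using Fin.cases <;> simp
  map_mul' x y := by
    apply Subtype.ext
    show Matrix.diagonal _ = Matrix.diagonal _ * Matrix.diagonal _
    rw [Matrix.diagonal_mul_diagonal]
    congr 1
    ext i
    cases i using Fin.cases
    · simp only [Fin.cons_zero, Pi.mul_apply, Finset.prod_mul_distrib, mul_inv, Units.val_mul]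
    · simp

theorem diagSL_injective (k : ℕ) : Function.Injective (diagSL (F := F) k) := fun x y h => by
  funext i
  apply Units.ext
  have h' := congrArg (fun g : Matrix.SpecialLinearGroup (Fin (k + 1)) F =>
    (g : Matrix (Fin (k + 1)) (Fin (k + 1)) F) i.succ i.succ) h
  change Matrix.diagonal (Fin.cons _ fun i => (x i : F)) i.succ i.succ =
    Matrix.diagonal (Fin.cons _ fun i => (y i : F)) i.succ i.succ at h'
  simpa using h'

end Cfsg.Agent.LPSylow
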